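import Cfsg.Agent.H728.BS.Tab

/-!
# Copies of a plane by shifts (helper239, for the plan machine of helper728, S5925 box H)

`tl a P = a + a 2^P + a 2^(2P)` by shifts; `tl81 N a = a * rpu N 81` (four steps, 81 copies).
-/

set_option autoImplicit false

namespace Cfsg.Agent.H239.PM

open Cfsg.Agent.H728.BS

/-- three copies at distance `P` -/
def tl (a P : ℕ) : ℕ := Nat.lor (Nat.lor a (Nat.shiftLeft a P)) (Nat.shiftLeft a (Nat.mul 2 P))

/-- 81 copies at distance `N` -/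
def tl81 (N a : ℕ) : ℕ :=
  fc (tl a N) fun b => fc (tl b (Nat.mul 3 N)) fun c => fc (tl c (Nat.mul 9 N)) fun d => tl d (Nat.mul 27 N)

/-- 3 copies at distance `N` -/
def tl3 (N a : ℕ) : ℕ := tl a N

/-- 9 copies at distance `N` -/
def tl9 (N a : ℕ) : ℕ := fc (tl a N) fun b => tl b (Nat.mul 3 N)

theorem lor_shift {a b P : ℕ} (ha : a < 2 ^ P) : a ||| (b <<< P) = a + b * 2 ^ P := by
  rw [Nat.shiftLeft_eq, mul_comm b, Nat.or_comm, ← Nat.two_pow_add_eq_or_of_lt ha, add_comm]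

theorem rpu_three {P : ℕ} (hP : 0 < P) : rpu P 3 = 1 + 2 ^ P + 2 ^ (2 * P) := by
  rw [rpu_succ hP, rpu_succ hP, rpu_succ hP, rpu_zero, mul_zero, pow_zero, mul_one, mul_comm P 2]
  omega

theorem tl_eq {P : ℕ} (hP : 0 < P) {a : ℕ} (ha : a < 2 ^ P) : tl a P = a * rpu P 3 := by
  show (a ||| (a <<< P)) ||| (a <<< (2 * P)) = _
  have h1 : a + a * 2 ^ P < 2 ^ (2 * P) := by
    have h2 : 2 ^ (2 * P) = 2 ^ P * 2 ^ P := by rw [two_mul, pow_add]
    rw [h2]
    have h3 : a + 1 ≤ 2 ^ P := ha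
    calc a + a * 2 ^ P < 2 ^ P + a * 2 ^ P := by omega
      _ = (a + 1) * 2 ^ P := by ring
      _ ≤ 2 ^ P * 2 ^ P := Nat.mul_le_mul_right _ h3
  rw [lor_shift ha, lor_shift h1, rpu_three hP]
  ring

theorem rpu_rpu {N : ℕ} (hN : 0 < N) {b : ℕ} (hb : 0 < b) (c : ℕ) : rpu N b * rpu (N * b) c = rpu N (b * c) := by
  obtain ⟨s, hs, h1⟩ := rpu_mul hN b
  obtain ⟨s', hs', h2⟩ := rpu_mul (Nat.mul_pos hN hb) c
  obtain ⟨s'', hs'', h3⟩ := rpu_mul hN (b * c)
  rw [h1, h2, h3]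
  have h4 : 1 < 2 ^ N := Nat.one_lt_two_pow (by omega)
  apply Nat.eq_of_mul_eq_mul_right (show 0 < 2 ^ N - 1 by omega)
  rw [mul_assoc, mul_comm s', ← mul_assoc, hs, mul_comm, hs', hs'', mul_assoc]

theorem tl9_eq {N a : ℕ} (hN : 0 < N) (ha : a < 2 ^ N) : tl9 N a = a * rpu N 9 := by
  show tl (tl a N) (3 * N) = _
  have h1 : a * rpu N 3 < 2 ^ (3 * N) := by rw [mul_comm 3]; exact tile_lt hN ha 3
  rw [tl_eq hN ha, tl_eq (by omega) h1, mul_assoc, mul_comm 3 N, rpu_rpu hN (by norm_num)]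

theorem tl81_eq {N a : ℕ} (hN : 0 < N) (ha : a < 2 ^ N) : tl81 N a = a * rpu N 81 := by
  show tl (tl (tl (tl a N) (3 * N)) (9 * N)) (27 * N) = _
  have h9 : tl (tl a N) (3 * N) = a * rpu N 9 := tl9_eq hN ha
  have h1 : a * rpu N 9 < 2 ^ (9 * N) := by rw [mul_comm 9]; exact tile_lt hN ha 9
  have h27 : tl (a * rpu N 9) (9 * N) = a * rpu N 27 := by
    rw [tl_eq (by omega) h1, mul_assoc, mul_comm 9 N, rpu_rpu hN (by norm_num)]
  have h2 : a * rpu N 27 < 2 ^ (27 * N) := by rw [mul_comm 27]; exact tile_lt hN ha 27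
  rw [h9, h27, tl_eq (by omega) h2, mul_assoc, mul_comm 27 N, rpu_rpu hN (by norm_num)]

theorem tl81_eq' {N a : ℕ} (ha : a < 2 ^ N) : tl81 N a = a * rpu N 81 := by
  rcases Nat.eq_zero_or_pos N with rfl | hN
  · have h0 : a = 0 := by simpa using ha
    subst h0
    rw [zero_mul]
    decide
  · exact tl81_eq hN ha

theorem tl9_eq' {N a : ℕ} (ha : a < 2 ^ N) : tl9 N a = a * rpu N 9 := by
  rcases Nat.eq_zero_or_pos N with rfl | hN
  · have h0 : a = 0 := by simpa using ha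
    subst h0
    rw [zero_mul]
    decide
  · exact tl9_eq hN ha

/-- bits of the copies -/
theorem tl81_testBit {N a : ℕ} (ha : a < 2 ^ N) {i t : ℕ} (hi : i < N) (ht : t < 81) :
    (tl81 N a).testBit (i + N * t) = a.testBit i := by
  rw [tl81_eq' ha]
  exact tile_testBit (by omega) ha 81 i t hi ht

/-- bits of the copies, for a plane which need not be reduced -/
theorem tl81_land_testBit {N : ℕ} (a : ℕ) {i t : ℕ} (hi : i < N) (ht : t < 81) :
    (tl81 N (Nat.land a (2 ^ N - 1))).testBit (i + N * t) = a.testBit i := by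
  have h1 : Nat.land a (2 ^ N - 1) < 2 ^ N := by
    show a &&& (2 ^ N - 1) < 2 ^ N
    rw [Nat.and_two_pow_sub_one_eq_mod]
    exact Nat.mod_lt _ (by positivity)
  rw [tl81_testBit h1 hi ht]
  show (a &&& (2 ^ N - 1)).testBit i = _
  rw [Nat.testBit_and, Nat.testBit_two_pow_sub_one, decide_eq_true hi, Bool.and_true]

end Cfsg.Agent.H239.PM
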